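import Groth.Prelude.Def_HopfRep
import Mathlib

/-!
# Matrix corepresentations and their characters
-/

set_option autoImplicit false
set_option linter.style.haveILetI false

open scoped TensorProduct Kronecker
open HopfRep

noncomputable section

namespace CharRingLib

universe u v w

variable {k : Type u} [Field k] {C : Type v} [CommRing C] [Bialgebra k C]

local notation "iL" => (Algebra.TensorProduct.includeLeft : C →ₐ[k] C ⊗[k] C)
local notation "iR" => (Algebra.TensorProduct.includeRight : C →ₐ[k] C ⊗[k] C)

/-- A square matrix of functions defining a representation. -/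
structure IsCorep (k : Type u) [Field k] {C : Type v} [CommRing C] [Bialgebra k C] {I : Type w} [Fintype I]
    [DecidableEq I] (a : Matrix I I C) : Prop where
  comul : a.map (Bialgebra.comulAlgHom k C) =
    a.map (Algebra.TensorProduct.includeLeft : C →ₐ[k] C ⊗[k] C) *
      a.map (Algebra.TensorProduct.includeRight : C →ₐ[k] C ⊗[k] C)
  counit : a.map (Bialgebra.counitAlgHom k C) = 1

theorem IsCorep.comul_apply {I : Type w} [Fintype I] [DecidableEq I] {a : Matrix I I C} (h : IsCorep k a) (i j : I) :
    CoalgebraStruct.comul (R := k) (a i j) = ∑ l, a i l ⊗ₜ[k] a l j := by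
  have := congrFun (congrFun h.comul i) j
  simpa [Matrix.mul_apply] using this

theorem IsCorep.counit_apply {I : Type w} [Fintype I] [DecidableEq I] {a : Matrix I I C} (h : IsCorep k a) (i j : I) :
    CoalgebraStruct.counit (R := k) (a i j) = if i = j then 1 else 0 := by
  have := congrFun (congrFun h.counit i) j
  simpa [Matrix.one_apply] using this

theorem isCorep_of_apply {I : Type w} [Fintype I] [DecidableEq I] {a : Matrix I I C}
    (h₁ : ∀ i j, CoalgebraStruct.comul (R := k) (a i j) = ∑ l, a i l ⊗ₜ[k] a l j)
    (h₂ : ∀ i j, CoalgebraStruct.counit (R := k) (a i j) = if i = j then 1 else 0) : IsCorep k a where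
  comul := by ext i j; simp [Matrix.mul_apply, h₁]
  counit := by ext i j; simp [Matrix.one_apply, h₂]

/-- Push forward along a map of bialgebras. -/
theorem IsCorep.map {D : Type v} [CommRing D] [Bialgebra k D] (π : C →ₐc[k] D) {I : Type w} [Fintype I]
    [DecidableEq I] {a : Matrix I I C} (h : IsCorep k a) : IsCorep k (a.map π) :=
  isCorep_of_apply (fun i j => by
      have e : CoalgebraStruct.comul (R := k) (π (a i j)) =
          TensorProduct.map π.toCoalgHom.toLinearMap π.toCoalgHom.toLinearMap (CoalgebraStruct.comul (R := k) (a i j)) :=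
        (CoalgHomClass.map_comp_comul_apply π (a i j)).symm
      rw [Matrix.map_apply, e, h.comul_apply, map_sum]
      exact Finset.sum_congr rfl fun l _ => TensorProduct.map_tmul _ _ _ _)
    fun i j => by
      rw [Matrix.map_apply, CoalgHomClass.counit_comp_apply, h.counit_apply]

theorem isCorep_one (I : Type w) [Fintype I] [DecidableEq I] : IsCorep k (1 : Matrix I I C) :=
  isCorep_of_apply (fun i j => by
      rw [Finset.sum_eq_single i (fun l _ hl => by simp [Matrix.one_apply_ne' hl]) (by simp)]
      by_cases h : i = j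
      · subst h; simp [Algebra.TensorProduct.one_def]
      · simp [h])
    fun i j => by
      by_cases h : i = j
      · subst h; simp
      · simp [h]

theorem IsCorep.reindex {I J : Type w} [Fintype I] [DecidableEq I] [Fintype J] [DecidableEq J] (e : I ≃ J)
    {a : Matrix I I C} (h : IsCorep k a) : IsCorep k (Matrix.reindex e e a) :=
  isCorep_of_apply (fun i j => by
      simp only [Matrix.reindex_apply, Matrix.submatrix_apply, h.comul_apply]
      exact (e.symm.sum_comp fun l => a (e.symm i) l ⊗ₜ[k] a l (e.symm j)).symm)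
    fun i j => by simp [Matrix.reindex_apply, h.counit_apply]

theorem IsCorep.blocks {I J : Type w} [Fintype I] [DecidableEq I] [Fintype J] [DecidableEq J]
    {a : Matrix I I C} {b : Matrix J J C} (ha : IsCorep k a) (hb : IsCorep k b) :
    IsCorep k (Matrix.fromBlocks a 0 0 b) where
  comul := by
    rw [Matrix.fromBlocks_map, Matrix.fromBlocks_map, Matrix.fromBlocks_map, Matrix.fromBlocks_multiply,
      ha.comul, hb.comul]
    simp
  counit := by
    rw [Matrix.fromBlocks_map, ha.counit, hb.counit]
    simp [← Matrix.fromBlocks_one]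

theorem map_kronecker {R S : Type*} [CommSemiring R] [CommSemiring S] (f : R →+* S) {I J : Type*}
    (a : Matrix I I R) (b : Matrix J J R) : (a ⊗ₖ b).map f = (a.map f) ⊗ₖ (b.map f) := by
  ext ⟨i, j⟩ ⟨i', j'⟩
  simp [Matrix.kroneckerMap_apply]

theorem IsCorep.kronecker {I J : Type w} [Fintype I] [DecidableEq I] [Fintype J] [DecidableEq J]
    {a : Matrix I I C} {b : Matrix J J C} (ha : IsCorep k a) (hb : IsCorep k b) : IsCorep k (a ⊗ₖ b) where
  comul := by
    show (a ⊗ₖ b).map (Bialgebra.comulAlgHom k C).toRingHom =
      (a ⊗ₖ b).map (iL).toRingHom * (a ⊗ₖ b).map (iR).toRingHom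
    rw [map_kronecker, map_kronecker, map_kronecker, ← Matrix.mul_kronecker_mul]
    exact congrArg₂ (· ⊗ₖ ·) ha.comul hb.comul
  counit := by
    show (a ⊗ₖ b).map (Bialgebra.counitAlgHom k C).toRingHom = 1
    rw [map_kronecker, ← Matrix.one_kronecker_one]
    exact congrArg₂ (· ⊗ₖ ·) ha.counit hb.counit

/-- The matrix of minors of size `n`. -/
def compound {R : Type*} [CommRing R] {d : ℕ} (n : ℕ) (a : Matrix (Fin d) (Fin d) R) :
    Matrix (Set.powersetCard (Fin d) n) (Set.powersetCard (Fin d) n) R :=
  Matrix.of fun s t => (a.submatrix (Set.powersetCard.ofFinEmbEquiv.symm s) (Set.powersetCard.ofFinEmbEquiv.symm t)).det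

theorem compound_map {R S : Type*} [CommRing R] [CommRing S] (f : R →+* S) {d : ℕ} (n : ℕ)
    (a : Matrix (Fin d) (Fin d) R) : (compound n a).map f = compound n (a.map f) := by
  ext s t
  simp only [compound, Matrix.map_apply, Matrix.of_apply, RingHom.map_det, RingHom.mapMatrix_apply,
    Matrix.submatrix_map]

theorem compound_eq_toMatrix {R : Type*} [CommRing R] {d : ℕ} (n : ℕ) (a : Matrix (Fin d) (Fin d) R) :
    compound n a = LinearMap.toMatrix ((Pi.basisFun R (Fin d)).exteriorPower n)
      ((Pi.basisFun R (Fin d)).exteriorPower n) (exteriorPower.map n (Matrix.toLin' a)) := by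
  ext s t
  rw [LinearMap.toMatrix_apply, exteriorPower.basis_apply, exteriorPower.map_apply_ιMulti_family,
    exteriorPower.basis_repr_apply, exteriorPower.ιMulti_family, exteriorPower.ιMultiDual_apply_ιMulti,
    compound, Matrix.of_apply, ← Matrix.det_transpose]
  congr 1
  ext i j
  simp [Pi.basisFun_repr, Pi.basisFun_apply]

theorem compound_mul {R : Type*} [CommRing R] {d : ℕ} (n : ℕ) (a b : Matrix (Fin d) (Fin d) R) :
    compound n (a * b) = compound n a * compound n b := by
  rw [compound_eq_toMatrix, compound_eq_toMatrix, compound_eq_toMatrix, ← LinearMap.toMatrix_comp,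
    ← exteriorPower.map_comp, ← Matrix.toLin'_mul]

theorem compound_one {R : Type*} [CommRing R] {d : ℕ} (n : ℕ) :
    compound n (1 : Matrix (Fin d) (Fin d) R) = 1 := by
  rw [compound_eq_toMatrix, Matrix.toLin'_one, exteriorPower.map_id, LinearMap.toMatrix_id]

theorem IsCorep.compound {d : ℕ} (n : ℕ) {a : Matrix (Fin d) (Fin d) C} (h : IsCorep k a) :
    IsCorep k (CharRingLib.compound n a) where
  comul := by
    show (CharRingLib.compound n a).map (Bialgebra.comulAlgHom k C).toRingHom =
      (CharRingLib.compound n a).map (iL).toRingHom * (CharRingLib.compound n a).map (iR).toRingHom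
    rw [compound_map, compound_map, compound_map, ← compound_mul]
    exact congrArg _ h.comul
  counit := by
    show (CharRingLib.compound n a).map (Bialgebra.counitAlgHom k C).toRingHom = 1
    rw [compound_map, ← compound_one]
    exact congrArg _ h.counit

/-- The powers of a corepresentation are linear in its entries. -/
theorem exists_powMap (k : Type u) [Field k] (C : Type v) [CommRing C] [Bialgebra k C] (n : ℕ) :
    ∃ ψ : C →ₗ[k] C, ∀ (I : Type w) [Fintype I] [DecidableEq I] (a : Matrix I I C),
      IsCorep k a → a.map ψ = a ^ n := by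
  induction n with
  | zero =>
    refine ⟨Algebra.linearMap k C ∘ₗ CoalgebraStruct.counit, fun I _ _ a h => ?_⟩
    ext i j
    simp [h.counit_apply, Matrix.one_apply, apply_ite (algebraMap k C)]
  | succ n ih =>
    obtain ⟨ψ, hψ⟩ := ih
    refine ⟨LinearMap.mul' k C ∘ₗ TensorProduct.map ψ LinearMap.id ∘ₗ CoalgebraStruct.comul, fun I _ _ a h => ?_⟩
    ext i j
    have := fun l => congrFun (congrFun (hψ I a h) i) l
    simp only [Matrix.map_apply] at this
    simp [h.comul_apply, pow_succ, Matrix.mul_apply, this]

/-- The comodule of a corepresentation. -/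
@[instance_reducible]
def IsCorep.comod {d : ℕ} {a : Matrix (Fin d) (Fin d) C} (h : IsCorep k a) : Comod k C (Fin d → k) where
  coact := (Pi.basisFun k (Fin d)).constr k fun i => ∑ j, Pi.single j (1 : k) ⊗ₜ[k] a j i
  coassoc := by
    refine (Pi.basisFun k (Fin d)).ext fun i => ?_
    have hb : ∀ j, (Pi.single j (1 : k) : Fin d → k) = Pi.basisFun k (Fin d) j := fun j =>
      (Pi.basisFun_apply k (Fin d) j).symm
    simp only [LinearMap.comp_apply, LinearEquiv.coe_coe, Module.Basis.constr_basis, map_sum,
      LinearMap.rTensor_tmul, LinearMap.lTensor_tmul, h.comul_apply, TensorProduct.tmul_sum]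
    simp only [hb, Module.Basis.constr_basis, TensorProduct.sum_tmul, map_sum, TensorProduct.assoc_tmul]
    exact Finset.sum_comm
  counit_comp := by
    refine (Pi.basisFun k (Fin d)).ext fun i => ?_
    simp [h.counit_apply, TensorProduct.tmul_ite, Pi.basisFun_apply, Finset.sum_ite_eq']

/-- The character of a comodule. -/
abbrev chr {d : ℕ} (c : Comod k C (Fin d → k)) : C :=
  ∑ i : Fin d, TensorProduct.lid k C (LinearMap.rTensor C (LinearMap.proj i)
    (@Comod.coact k C _ _ _ _ (Fin d → k) _ _ c (Pi.single i 1)))

theorem IsCorep.chr_comod {d : ℕ} {a : Matrix (Fin d) (Fin d) C} (h : IsCorep k a) :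
    chr h.comod = a.trace := by
  refine Finset.sum_congr rfl fun i _ => ?_
  show TensorProduct.lid k C (LinearMap.rTensor C (LinearMap.proj i)
    ((Pi.basisFun k (Fin d)).constr k (fun i => ∑ j, Pi.single j (1 : k) ⊗ₜ[k] a j i) (Pi.single i (1 : k)))) = a i i
  conv_lhs => enter [2, 2, 2]; rw [← Pi.basisFun_apply k (Fin d) i]
  rw [Module.Basis.constr_basis]
  simp [Pi.single_apply, ite_smul]

/-- The characters of representations. -/
def Chars (k : Type u) [Field k] (C : Type v) [CommRing C] [Bialgebra k C] : Set C :=
  Set.range (fun p : (Σ d : ℕ, Comod k C (Fin d → k)) => chr p.2)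

theorem IsCorep.trace_mem {I : Type w} [Fintype I] [DecidableEq I] {a : Matrix I I C} (h : IsCorep k a) :
    a.trace ∈ Chars k C := by
  let e : I ≃ ULift.{w} (Fin (Fintype.card I)) := (Fintype.equivFin I).trans Equiv.ulift.symm
  let b : Matrix (Fin (Fintype.card I)) (Fin (Fintype.card I)) C :=
    Matrix.of fun i j => a (e.symm (ULift.up i)) (e.symm (ULift.up j))
  have hb : IsCorep k b := isCorep_of_apply (fun i j => by
      show CoalgebraStruct.comul (R := k) (a _ _) = _
      rw [h.comul_apply]
      exact (((Equiv.ulift.symm).trans e.symm).sum_comp fun l =>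
        a (e.symm (ULift.up i)) l ⊗ₜ[k] a l (e.symm (ULift.up j))).symm)
    fun i j => by
      show CoalgebraStruct.counit (R := k) (a _ _) = _
      rw [h.counit_apply]
      simp
  refine ⟨⟨_, hb.comod⟩, hb.chr_comod.trans ?_⟩
  exact ((Equiv.ulift.symm).trans e.symm).sum_comp fun l => a l l

theorem exists_corep_of_comod {d : ℕ} (c : Comod k C (Fin d → k)) :
    ∃ a : Matrix (Fin d) (Fin d) C, IsCorep k a ∧ a.trace = chr c := by
  letI := c
  let p : Fin d → ((Fin d → k) ⊗[k] C →ₗ[k] C) := fun j =>
    (TensorProduct.lid k C).toLinearMap ∘ₗ LinearMap.rTensor C (LinearMap.proj j)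
  let a : Matrix (Fin d) (Fin d) C := Matrix.of fun j i => p j (Comod.coact (Pi.single i (1 : k)))
  have hrec : ∀ z : (Fin d → k) ⊗[k] C, ∑ j, Pi.single j (1 : k) ⊗ₜ[k] p j z = z := fun z => by
    induction z using TensorProduct.induction_on with
    | zero => simp
    | add x y hx hy => simp only [map_add, TensorProduct.tmul_add, Finset.sum_add_distrib, hx, hy]
    | tmul x y =>
      simp only [p, LinearMap.comp_apply, LinearEquiv.coe_coe, LinearMap.rTensor_tmul, TensorProduct.lid_tmul,
        LinearMap.proj_apply, TensorProduct.tmul_smul, TensorProduct.smul_tmul', ← TensorProduct.sum_tmul]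
      congr 1
      exact (pi_eq_sum_univ' x).symm
  have hco : ∀ i, Comod.coact (A := C) (Pi.single i (1 : k) : Fin d → k) = ∑ j, Pi.single j (1 : k) ⊗ₜ[k] a j i :=
    fun i => (hrec _).symm
  refine ⟨a, isCorep_of_apply (fun l i => ?_) (fun l i => ?_), rfl⟩
  · have h := LinearMap.congr_fun (Comod.coassoc (k := k) (A := C) (V := Fin d → k)) (Pi.single i 1)
    simp only [LinearMap.comp_apply, hco, map_sum, LinearMap.rTensor_tmul, LinearMap.lTensor_tmul,
      TensorProduct.sum_tmul, LinearEquiv.coe_coe, TensorProduct.assoc_tmul] at h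
    have h' := congrArg (fun z => TensorProduct.lid k (C ⊗[k] C) (LinearMap.rTensor (C ⊗[k] C) (LinearMap.proj l) z)) h
    simp [Pi.single_apply, ite_smul] at h'
    exact h'.symm
  · have h := LinearMap.congr_fun (Comod.counit_comp (k := k) (A := C) (V := Fin d → k)) (Pi.single i 1)
    simp only [LinearMap.comp_apply, hco, map_sum, LinearMap.lTensor_tmul] at h
    have h' := congrArg (fun z => TensorProduct.lid k k (LinearMap.rTensor k (LinearMap.proj l) z)) h
    simpa [Pi.single_apply, ite_smul, eq_comm] using h'

end CharRingLib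

end
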