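import Groth.Agent.CharRingLib.Corep

/-!
# Integrality of characters over the algebra of a faithful representation
-/

set_option autoImplicit false
set_option linter.style.haveILetI false

open scoped TensorProduct Kronecker
open HopfRep Polynomial

noncomputable section

namespace CharRingLib

universe u v

variable {R : Type v} {B : Type v} [CommRing R] [CommRing B] [Algebra R B]

theorem isIntegral_blocks {I J : Type*} [Fintype I] [DecidableEq I] [Fintype J] [DecidableEq J]
    {a : Matrix I I B} {b : Matrix J J B} (ha : IsIntegral R a) (hb : IsIntegral R b) :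
    IsIntegral R (Matrix.fromBlocks a 0 0 b) := by
  obtain ⟨P, hP, hPa⟩ := ha
  obtain ⟨Q, hQ, hQb⟩ := hb
  let Φ : Matrix I I B × Matrix J J B →ₐ[R] Matrix (I ⊕ J) (I ⊕ J) B :=
    { toFun := fun p => Matrix.fromBlocks p.1 0 0 p.2
      map_one' := Matrix.fromBlocks_one
      map_mul' := fun p q => by simp [Matrix.fromBlocks_multiply]
      map_zero' := Matrix.fromBlocks_zero
      map_add' := fun p q => by simp [Matrix.fromBlocks_add]
      commutes' := fun r => by
        ext (i | i) (j | j) <;> simp [Matrix.algebraMap_matrix_apply, Prod.algebraMap_apply] }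
  have h : aeval ((a, b) : Matrix I I B × Matrix J J B) (P * Q) = 0 := by
    rw [← aeval_def] at hPa hQb
    refine Prod.ext ?_ ?_
    · show AlgHom.fst R _ _ (aeval _ (P * Q)) = 0
      rw [← aeval_algHom_apply, AlgHom.fst_apply, map_mul, hPa, zero_mul]
    · show AlgHom.snd R _ _ (aeval _ (P * Q)) = 0
      rw [← aeval_algHom_apply, AlgHom.snd_apply, map_mul, hQb, mul_zero]
  exact IsIntegral.map Φ (show IsIntegral R ((a, b) : Matrix I I B × Matrix J J B) from ⟨P * Q, hP.mul hQ, h⟩)

theorem isIntegral_kronecker {I J : Type*} [Fintype I] [DecidableEq I] [Fintype J] [DecidableEq J]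
    {a : Matrix I I B} {b : Matrix J J B} (ha : IsIntegral R a) (hb : IsIntegral R b) :
    IsIntegral R (a ⊗ₖ b) := by
  let Φ : Matrix I I B →ₐ[R] Matrix (I × J) (I × J) B :=
    { toFun := fun x => x ⊗ₖ (1 : Matrix J J B)
      map_one' := Matrix.one_kronecker_one
      map_mul' := fun p q => by rw [← Matrix.mul_kronecker_mul, mul_one]
      map_zero' := Matrix.zero_kronecker _
      map_add' := fun p q => Matrix.add_kronecker _ _ _
      commutes' := fun r => by
        ext ⟨i, j⟩ ⟨i', j'⟩
        simp only [Matrix.kroneckerMap_apply, Matrix.algebraMap_matrix_apply, Matrix.one_apply, Prod.mk.injEq]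
        by_cases h₁ : i = i' <;> by_cases h₂ : j = j' <;> simp [h₁, h₂] }
  let Ψ : Matrix J J B →ₐ[R] Matrix (I × J) (I × J) B :=
    { toFun := fun x => (1 : Matrix I I B) ⊗ₖ x
      map_one' := Matrix.one_kronecker_one
      map_mul' := fun p q => by rw [← Matrix.mul_kronecker_mul, mul_one]
      map_zero' := Matrix.kronecker_zero _
      map_add' := fun p q => Matrix.kronecker_add _ _ _
      commutes' := fun r => by
        ext ⟨i, j⟩ ⟨i', j'⟩
        simp only [Matrix.kroneckerMap_apply, Matrix.algebraMap_matrix_apply, Matrix.one_apply, Prod.mk.injEq]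
        by_cases h₁ : i = i' <;> by_cases h₂ : j = j' <;> simp [h₁, h₂] }
  have hc : Φ a * Ψ b = Ψ b * Φ a := by
    show (a ⊗ₖ (1 : Matrix J J B)) * ((1 : Matrix I I B) ⊗ₖ b) = ((1 : Matrix I I B) ⊗ₖ b) * (a ⊗ₖ (1 : Matrix J J B))
    rw [← Matrix.mul_kronecker_mul, ← Matrix.mul_kronecker_mul, mul_one, one_mul, mul_one, one_mul]
  let T : Subalgebra R (Matrix (I × J) (I × J) B) := Algebra.adjoin R {Φ a, Ψ b}
  letI : CommRing T := Algebra.adjoinCommRingOfComm R (s := ({Φ a, Ψ b} : Set _)) (by
    intro x hx y hy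
    simp only [Set.mem_insert_iff, Set.mem_singleton_iff] at hx hy
    rcases hx with rfl | rfl <;> rcases hy with rfl | rfl <;> first | rfl | exact hc | exact hc.symm)
  let x : T := ⟨Φ a, Algebra.subset_adjoin (Set.mem_insert _ _)⟩
  let y : T := ⟨Ψ b, Algebra.subset_adjoin (Set.mem_insert_of_mem _ rfl)⟩
  have hx : IsIntegral R x := (isIntegral_algHom_iff T.val Subtype.val_injective).1 (ha.map Φ)
  have hy : IsIntegral R y := (isIntegral_algHom_iff T.val Subtype.val_injective).1 (hb.map Ψ)
  have := (hx.mul hy).map T.val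
  have e : T.val (x * y) = a ⊗ₖ b := by
    show (a ⊗ₖ (1 : Matrix J J B)) * ((1 : Matrix I I B) ⊗ₖ b) = _
    rw [← Matrix.mul_kronecker_mul, mul_one, one_mul]
  rwa [e] at this

/-- In a reduced Noetherian ring the trace of an integral matrix is integral. -/
theorem isIntegral_trace [IsReduced B] [IsNoetherianRing B] {I : Type*} [Fintype I] [DecidableEq I]
    {a : Matrix I I B} (ha : IsIntegral R a) : IsIntegral R a.trace := by
  classical
  have hloc : ∀ P : Ideal B, P.IsPrime → ∃ Q : R[X], Q.Monic ∧ aeval a.trace Q ∈ P := by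
    intro P hP
    let Ω := AlgebraicClosure (FractionRing (B ⧸ P))
    let π : B →ₐ[R] Ω := IsScalarTower.toAlgHom R B Ω
    have hw : IsIntegral R (π.mapMatrix a) := ha.map π.mapMatrix
    obtain ⟨F, hF, hFa⟩ := hw
    rw [← aeval_def] at hFa
    have hroot : ∀ μ ∈ (π.mapMatrix a).charpoly.roots, IsIntegral R μ := by
      intro μ hμ
      have hμ' : μ ∈ spectrum Ω (π.mapMatrix a) :=
        Matrix.mem_spectrum_iff_isRoot_charpoly.2 (isRoot_of_mem_roots hμ)
      refine ⟨F, hF, ?_⟩
      rw [← aeval_def]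
      obtain ⟨v, hv0, hv⟩ : ∃ v : I → Ω, v ≠ 0 ∧ Matrix.toLin' (π.mapMatrix a) v = μ • v := by
        rw [← Matrix.spectrum_toLin', ← Module.End.hasEigenvalue_iff_mem_spectrum] at hμ'
        obtain ⟨v, hv⟩ := hμ'.exists_hasEigenvector
        exact ⟨v, hv.2, Module.End.mem_eigenspace_iff.1 hv.1⟩
      have h1 := Module.End.aeval_apply_of_hasEigenvector
        (p := F.map (algebraMap R Ω)) ⟨Module.End.mem_eigenspace_iff.2 hv, hv0⟩
      have h2 : aeval (Matrix.toLin' (π.mapMatrix a)) (F.map (algebraMap R Ω)) = 0 := by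
        rw [show Matrix.toLin' (π.mapMatrix a) =
            (Matrix.toLinAlgEquiv' (R := Ω) (n := I)).toAlgHom (π.mapMatrix a) from rfl,
          aeval_algHom_apply, aeval_map_algebraMap, hFa, map_zero]
      rw [h2, LinearMap.zero_apply, eval_map_algebraMap] at h1
      exact (smul_eq_zero.1 h1.symm).resolve_right hv0
    have ht : IsIntegral R (π a.trace) := by
      rw [show π a.trace = (π.mapMatrix a).trace from (AddMonoidHom.map_trace π.toAddMonoidHom a),
        Matrix.trace_eq_sum_roots_charpoly]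
      exact IsIntegral.multiset_sum hroot
    obtain ⟨Q, hQ, hQt⟩ := ht
    refine ⟨Q, hQ, ?_⟩
    rw [← aeval_def, aeval_algHom_apply] at hQt
    have hinj : Function.Injective (algebraMap (B ⧸ P) Ω) :=
      (algebraMap (FractionRing (B ⧸ P)) Ω).injective.comp (IsFractionRing.injective (B ⧸ P) _)
    exact Ideal.Quotient.eq_zero_iff_mem.1 (hinj (hQt.trans (map_zero _).symm))
  choose Q hQ hQP using hloc
  let S := (minimalPrimes.finite_of_isNoetherianRing B).toFinset
  have hS : ∀ P ∈ S, P.IsPrime := fun P hP => ((Set.Finite.mem_toFinset _).1 hP).1.1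
  refine ⟨∏ P : S, Q P.1 (hS P.1 P.2), monic_prod_of_monic _ _ fun P _ => hQ _ _, ?_⟩
  rw [← aeval_def]
  have hmem : aeval a.trace (∏ P : S, Q P.1 (hS P.1 P.2)) ∈ nilradical B := by
    rw [nilradical, Ideal.radical_eq_sInf, Submodule.mem_sInf]
    rintro P ⟨-, hP⟩
    obtain ⟨q, hq, hqP⟩ := Ideal.exists_minimalPrimes_le (I := ⊥) (J := P) bot_le
    refine hqP ?_
    have hqS : q ∈ S := (Set.Finite.mem_toFinset _).2 hq
    rw [map_prod, ← Finset.mul_prod_erase _ _ (Finset.mem_univ (⟨q, hqS⟩ : S))]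
    exact q.mul_mem_right _ (hQP q _)
  simpa [nilradical_eq_zero] using hmem

variable {k : Type u} [Field k] [Bialgebra k B]

/-- Entries of integral representations exhaust what the entries of one of them generate. -/
theorem exists_corep_span {d : ℕ} {X : Matrix (Fin d) (Fin d) B} (hX : IsCorep k X) (hXi : IsIntegral R X)
    (hgen : Algebra.adjoin k (Set.range fun p : Fin d × Fin d => X p.1 p.2) = ⊤) (F : Finset B) :
    ∃ (J : Type) (_ : Fintype J) (_ : DecidableEq J) (Y : Matrix J J B), IsCorep k Y ∧ IsIntegral R Y ∧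
      ↑F ⊆ (Submodule.span k (Set.range fun p : J × J => Y p.1 p.2) : Set B) := by
  classical
  let Pr : B → Prop := fun x => ∃ (J : Type) (_ : Fintype J) (_ : DecidableEq J) (Y : Matrix J J B),
    IsCorep k Y ∧ IsIntegral R Y ∧ x ∈ Submodule.span k (Set.range fun p : J × J => Y p.1 p.2)
  have one : Pr 1 := ⟨PUnit, inferInstance, inferInstance, 1, isCorep_one _, isIntegral_one,
    Submodule.subset_span ⟨(PUnit.unit, PUnit.unit), by simp⟩⟩
  have block : ∀ {J J' : Type} [Fintype J] [DecidableEq J] [Fintype J'] [DecidableEq J']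
      (Y : Matrix J J B) (Y' : Matrix J' J' B),
      Submodule.span k (Set.range fun p : J × J => Y p.1 p.2) ⊔
        Submodule.span k (Set.range fun p : J' × J' => Y' p.1 p.2) ≤
      Submodule.span k (Set.range fun p : (J ⊕ J') × (J ⊕ J') => Matrix.fromBlocks Y 0 0 Y' p.1 p.2) := by
    intro J J' _ _ _ _ Y Y'
    refine sup_le (Submodule.span_le.2 ?_) (Submodule.span_le.2 ?_)
    · rintro _ ⟨⟨i, j⟩, rfl⟩
      exact Submodule.subset_span ⟨(Sum.inl i, Sum.inl j), rfl⟩
    · rintro _ ⟨⟨i, j⟩, rfl⟩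
      exact Submodule.subset_span ⟨(Sum.inr i, Sum.inr j), rfl⟩
  have hall : ∀ x : B, Pr x := by
    intro x
    have hx : x ∈ Algebra.adjoin k (Set.range fun p : Fin d × Fin d => X p.1 p.2) := hgen ▸ Algebra.mem_top
    induction hx using Algebra.adjoin_induction with
    | mem x hx => exact ⟨Fin d, inferInstance, inferInstance, X, hX, hXi, Submodule.subset_span hx⟩
    | algebraMap c =>
      obtain ⟨J, i1, i2, Y, h1, h2, h3⟩ := one
      exact ⟨J, i1, i2, Y, h1, h2, by rw [Algebra.algebraMap_eq_smul_one]; exact Submodule.smul_mem _ c h3⟩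
    | add x y _ _ hx hy =>
      obtain ⟨J, i1, i2, Y, h1, h2, h3⟩ := hx
      obtain ⟨J', i1', i2', Y', h1', h2', h3'⟩ := hy
      exact ⟨J ⊕ J', inferInstance, inferInstance, _, h1.blocks h1', isIntegral_blocks h2 h2',
        block Y Y' (Submodule.add_mem_sup h3 h3')⟩
    | mul x y _ _ hx hy =>
      obtain ⟨J, i1, i2, Y, h1, h2, h3⟩ := hx
      obtain ⟨J', i1', i2', Y', h1', h2', h3'⟩ := hy
      refine ⟨J × J', inferInstance, inferInstance, _, h1.kronecker h1', isIntegral_kronecker h2 h2', ?_⟩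
      have h := Submodule.mul_mem_mul h3 h3'
      rw [Submodule.span_mul_span] at h
      refine Submodule.span_mono ?_ h
      rintro _ ⟨_, ⟨⟨i, i'⟩, rfl⟩, _, ⟨⟨j, j'⟩, rfl⟩, rfl⟩
      exact ⟨((i, j), (i', j')), rfl⟩
  induction F using Finset.induction with
  | empty =>
    obtain ⟨J, i1, i2, Y, h1, h2, -⟩ := one
    exact ⟨J, i1, i2, Y, h1, h2, by simp⟩
  | insert x F hx ih =>
    obtain ⟨J, i1, i2, Y, h1, h2, h3⟩ := ih
    obtain ⟨J', i1', i2', Y', h1', h2', h3'⟩ := hall x
    refine ⟨J ⊕ J', inferInstance, inferInstance, _, h1.blocks h1', isIntegral_blocks h2 h2', ?_⟩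
    rw [Finset.coe_insert, Set.insert_subset_iff]
    exact ⟨block Y Y' (Submodule.mem_sup_right h3'), fun z hz => block Y Y' (Submodule.mem_sup_left (h3 hz))⟩

/-- Every representation is integral over the algebra over which a generating one is. -/
theorem isIntegral_corep {d : ℕ} {X : Matrix (Fin d) (Fin d) B} (hX : IsCorep k X) (hXi : IsIntegral R X)
    (hgen : Algebra.adjoin k (Set.range fun p : Fin d × Fin d => X p.1 p.2) = ⊤) {I : Type} [Fintype I]
    [DecidableEq I] {w : Matrix I I B} (hw : IsCorep k w) : IsIntegral R w := by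
  classical
  obtain ⟨J, i1, i2, Y, hY, hYi, hF⟩ :=
    exists_corep_span hX hXi hgen ((Finset.univ : Finset (I × I)).image fun p => w p.1 p.2)
  have hc : ∀ i j, ∃ c : J × J → k, ∑ p, c p • Y p.1 p.2 = w i j := fun i j =>
    (Submodule.mem_span_range_iff_exists_fun k).1
      (hF (Finset.mem_coe.2 (Finset.mem_image.2 ⟨(i, j), Finset.mem_univ _, rfl⟩)))
  choose c hc using hc
  obtain ⟨P, hP, hPY⟩ := hYi
  rw [← aeval_def] at hPY
  refine ⟨P, hP, ?_⟩
  rw [← aeval_def]
  have hpow : ∀ n i j, (w ^ n) i j = ∑ p, c i j p • (Y ^ n) p.1 p.2 := by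
    intro n i j
    obtain ⟨ψ, hψ⟩ := exists_powMap.{u, v, 0} k B n
    rw [← hψ I w hw, ← hψ J Y hY]
    simp only [Matrix.map_apply]
    rw [← hc i j, map_sum]
    exact Finset.sum_congr rfl fun p _ => map_smul ψ _ _
  ext i j
  rw [aeval_eq_sum_range, Matrix.sum_apply, Matrix.zero_apply]
  have h0 : ∀ p : J × J, ∑ n ∈ Finset.range (P.natDegree + 1), P.coeff n • (Y ^ n) p.1 p.2 = 0 := fun p => by
    have := congrFun (congrFun hPY p.1) p.2
    simpa [aeval_eq_sum_range, Matrix.sum_apply] using this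
  simp only [Matrix.smul_apply, hpow, Finset.smul_sum]
  rw [Finset.sum_comm]
  refine Finset.sum_eq_zero fun p _ => ?_
  simp only [Algebra.smul_def, mul_left_comm _ (algebraMap k B (c i j p))]
  rw [← Finset.mul_sum]
  simp only [← Algebra.smul_def, h0, smul_zero]

theorem finset_image_powersetCard {d : ℕ} (n : ℕ) {R : Type*} [CommRing R] (a : Matrix (Fin d) (Fin d) R) :
    (compound n a).trace = ∑ s ∈ (Finset.univ : Finset (Fin d)).powersetCard n,
      (a.submatrix (Subtype.val : s → Fin d) (Subtype.val : s → Fin d)).det := by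
  rw [← Finset.sum_attach ((Finset.univ : Finset (Fin d)).powersetCard n), Matrix.trace]
  refine Fintype.sum_equiv
    (Equiv.subtypeEquivRight fun s => by simp [Set.powersetCard.mem_iff, Finset.mem_powersetCard]) _ _ fun s => ?_
  show (a.submatrix _ _).det = _
  exact Matrix.det_submatrix_equiv_self ((s : Finset (Fin d)).orderIsoOfFin s.2).toEquiv
    (a.submatrix (fun x : {x // x ∈ (s : Finset (Fin d))} => x.1) (fun x => x.1))

/-- The coefficients of the characteristic polynomial lie in the ring of characters. -/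
theorem charpoly_coeff_mem {C : Type v} [CommRing C] [Bialgebra k C] {d : ℕ} {t : Matrix (Fin d) (Fin d) C}
    (ht : IsCorep k t) (n : ℕ) : t.charpoly.coeff n ∈ Algebra.adjoin k (Chars k C) := by
  nontriviality C
  by_cases hn : n ≤ d
  · have h := Matrix.charpoly_coeff_eq_sum_minors t (d - n) (by simp)
    rw [Fintype.card_fin, Nat.sub_sub_self hn, ← finset_image_powersetCard] at h
    rw [h]
    exact Subalgebra.mul_mem _ (pow_mem (neg_mem (one_mem _)) _) (Algebra.subset_adjoin (ht.compound _).trace_mem)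
  · rw [Polynomial.coeff_eq_zero_of_natDegree_lt (by rw [Matrix.charpoly_natDegree_eq_dim, Fintype.card_fin]; omega)]
    exact zero_mem _

end CharRingLib

end
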